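import Groth.Agent.GrpShear
import Groth.Agent.GrpdLib.Quot.Props
import Groth.Prelude.Def_Mor2

/-!
The groupoid of an action of a group scheme, and quotients of free actions of finite locally free groups.
-/

set_option autoImplicit false
set_option maxHeartbeats 800000

noncomputable section

universe u

open CategoryTheory CategoryTheory.Limits MonoidalCategory CartesianMonoidalCategory AlgebraicGeometry
open scoped MonObj

namespace Groth.Agent.ActGrpd

variable {S : Scheme.{u}} {G X : Over S} [GrpObj G] (a : AlgGrp.Action G X)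

/-- A point of the scheme of arrows, over the base. -/
def ov {T : Scheme.{u}} (α : T ⟶ (G ⊗ X).left) : Over.mk (α ≫ (G ⊗ X).hom) ⟶ G ⊗ X := Over.homMk α rfl

theorem cond (c : pullback (snd G X).left a.act.left ⟶ (G ⊗ X).left) :
    (c ≫ (snd G X).left) ≫ X.hom = c ≫ (G ⊗ X).hom := by
  rw [Category.assoc, Over.w]

/-- The pairs of composable arrows. -/
def PP : Over S := Over.mk (pullback.fst (snd G X).left a.act.left ≫ (G ⊗ X).hom)

/-- The first arrow. -/
def αu : PP a ⟶ G ⊗ X := Over.homMk (pullback.fst _ _) rfl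

/-- The second arrow. -/
def βu : PP a ⟶ G ⊗ X := Over.homMk (pullback.snd (snd G X).left a.act.left) (by
  show pullback.snd _ _ ≫ (G ⊗ X).hom = pullback.fst _ _ ≫ (G ⊗ X).hom
  exact (congrArg (pullback.snd _ _ ≫ ·) (Over.w a.act).symm).trans ((Category.assoc _ _ _).symm.trans
    ((congrArg (· ≫ X.hom) pullback.condition.symm).trans ((Category.assoc _ _ _).trans
      (congrArg (pullback.fst _ _ ≫ ·) (Over.w (snd G X)))))))

/-- Composition. -/
def comp : pullback (snd G X).left a.act.left ⟶ (G ⊗ X).left :=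
  (lift ((αu a ≫ fst G X) * (βu a ≫ fst G X)) (βu a ≫ snd G X)).left

theorem comp_pt {T : Over S} (α β : T ⟶ G ⊗ X) (h : α ≫ snd G X = β ≫ a.act) :
    pullback.lift α.left β.left (congrArg Over.Hom.left h) ≫ comp a =
      (lift ((α ≫ fst G X) * (β ≫ fst G X)) (β ≫ snd G X)).left := by
  let m : T ⟶ PP a := Over.homMk (pullback.lift α.left β.left (congrArg Over.Hom.left h)) (by
    show pullback.lift _ _ _ ≫ pullback.fst _ _ ≫ (G ⊗ X).hom = T.hom
    rw [pullback.lift_fst_assoc, Over.w])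
  have hα : m ≫ αu a = α := Over.OverMorphism.ext (pullback.lift_fst _ _ _)
  have hβ : m ≫ βu a = β := Over.OverMorphism.ext (pullback.lift_snd _ _ _)
  show (m ≫ lift ((αu a ≫ fst G X) * (βu a ≫ fst G X)) (βu a ≫ snd G X)).left = _
  rw [comp_lift, MonObj.comp_mul, ← Category.assoc, ← Category.assoc, ← Category.assoc, hα, hβ]

theorem overHom {T : Scheme.{u}} {α β : T ⟶ (G ⊗ X).left} (h : α ≫ (snd G X).left = β ≫ a.act.left) :
    β ≫ (G ⊗ X).hom = α ≫ (G ⊗ X).hom := by
  exact (congrArg (β ≫ ·) (Over.w a.act).symm).trans ((Category.assoc _ _ _).symm.trans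
    ((congrArg (· ≫ X.hom) h.symm).trans ((Category.assoc _ _ _).trans (congrArg (α ≫ ·) (Over.w (snd G X))))))

theorem inv_act : lift (fst G X)⁻¹ a.act ≫ a.act = snd G X := by
  have h : lift (fst G X) (snd G X) ≫ a.act = a.act := by rw [lift_fst_snd, Category.id_comp]
  refine (congrArg (fun z => lift (fst G X)⁻¹ z ≫ a.act) h.symm).trans ?_
  rw [← GrpShear.lift_mul_act, inv_mul_cancel, GrpShear.lift_one_act]

/-- The second arrow, over the first. -/
def ov' {T : Scheme.{u}} (α β : T ⟶ (G ⊗ X).left) (h : α ≫ (snd G X).left = β ≫ a.act.left) :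
    Over.mk (α ≫ (G ⊗ X).hom) ⟶ G ⊗ X := Over.homMk β (overHom a h)

theorem ov_cond {T : Scheme.{u}} (α β : T ⟶ (G ⊗ X).left) (h : α ≫ (snd G X).left = β ≫ a.act.left) :
    ov α ≫ snd G X = ov' a α β h ≫ a.act := Over.OverMorphism.ext h

theorem comp_eq {T : Scheme.{u}} (α β : T ⟶ (G ⊗ X).left) (h : α ≫ (snd G X).left = β ≫ a.act.left) :
    pullback.lift α β h ≫ comp a =
      (lift ((ov α ≫ fst G X) * (ov' a α β h ≫ fst G X)) (ov' a α β h ≫ snd G X)).left :=
  comp_pt a (ov α) (ov' a α β h) (ov_cond a α β h)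

/-- The action groupoid. -/
abbrev grpd : Grpd.GroupoidScheme S where
  U := X.left
  R := (G ⊗ X).left
  pU := X.hom
  pR := (G ⊗ X).hom
  s := (snd G X).left
  t := a.act.left
  e := (lift (1 : X ⟶ G) (𝟙 X)).left
  i := (lift (fst G X)⁻¹ a.act).left
  c := comp a
  s_over := Over.w _
  t_over := Over.w _
  comp_s α β h := by
    rw [comp_eq a α β h, ← Over.comp_left, lift_snd]
    rfl
  comp_t α β h := by
    rw [comp_eq a α β h, ← Over.comp_left, GrpShear.lift_mul_act,
      show lift (ov' a α β h ≫ fst G X) (ov' a α β h ≫ snd G X) = ov' a α β h by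
        rw [← comp_lift, lift_fst_snd, Category.comp_id],
      ← ov_cond a α β h,
      show lift (ov α ≫ fst G X) (ov α ≫ snd G X) = ov α by rw [← comp_lift, lift_fst_snd, Category.comp_id]]
    rfl
  assoc {T} α β γ h₁ h₂ := by
    let A : Over.mk (α ≫ (G ⊗ X).hom) ⟶ G ⊗ X := ov α
    let B := ov' a α β h₁
    let C : Over.mk (α ≫ (G ⊗ X).hom) ⟶ G ⊗ X := Over.homMk γ ((overHom a h₂).trans (overHom a h₁))
    have hAB : A ≫ snd G X = B ≫ a.act := Over.OverMorphism.ext h₁
    have hBC : B ≫ snd G X = C ≫ a.act := Over.OverMorphism.ext h₂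
    have e1 : ∀ (P : Over.mk (α ≫ (G ⊗ X).hom) ⟶ G ⊗ X) (hP : P ≫ snd G X = C ≫ a.act) (p : T ⟶ (G ⊗ X).left)
        (hp : p = P.left) (hp' : p ≫ (snd G X).left = γ ≫ a.act.left),
        pullback.lift p γ hp' ≫ comp a = (lift ((P ≫ fst G X) * (C ≫ fst G X)) (C ≫ snd G X)).left := by
      intro P hP p hp hp'
      subst hp
      exact comp_pt a P C hP
    have e2 : ∀ (P : Over.mk (α ≫ (G ⊗ X).hom) ⟶ G ⊗ X) (hP : A ≫ snd G X = P ≫ a.act) (p : T ⟶ (G ⊗ X).left)
        (hp : p = P.left) (hp' : α ≫ (snd G X).left = p ≫ a.act.left),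
        pullback.lift α p hp' ≫ comp a = (lift ((A ≫ fst G X) * (P ≫ fst G X)) (P ≫ snd G X)).left := by
      intro P hP p hp hp'
      subst hp
      exact comp_pt a A P hP
    have hl : pullback.lift α β h₁ ≫ comp a = (lift ((A ≫ fst G X) * (B ≫ fst G X)) (B ≫ snd G X)).left :=
      comp_eq a α β h₁
    have hr : pullback.lift β γ h₂ ≫ comp a = (lift ((B ≫ fst G X) * (C ≫ fst G X)) (C ≫ snd G X)).left :=
      comp_pt a B C hBC
    rw [e1 _ (by rw [lift_snd, hBC]) _ hl, e2 _ (by
      rw [GrpShear.lift_mul_act, show lift (C ≫ fst G X) (C ≫ snd G X) = C by rw [← comp_lift, lift_fst_snd,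
        Category.comp_id], ← hBC, show lift (B ≫ fst G X) (B ≫ snd G X) = B by rw [← comp_lift, lift_fst_snd,
        Category.comp_id], hAB]) _ hr, lift_fst, lift_fst, lift_snd, mul_assoc]
  e_s := by rw [← Over.comp_left, lift_snd]; rfl
  e_t := by rw [← Over.comp_left, GrpShear.lift_one_act]; rfl
  comp_e {T} α := by
    have h := comp_pt a (ov α) (ov α ≫ snd G X ≫ lift (1 : X ⟶ G) (𝟙 X)) (by
      simp only [Category.assoc, GrpShear.lift_one_act, Category.comp_id])
    refine Eq.trans h ?_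
    simp only [Category.assoc, lift_fst, lift_snd, Category.comp_id, MonObj.comp_one, mul_one]
    rw [← comp_lift, lift_fst_snd, Category.comp_id]
    rfl
  e_comp {T} α := by
    have h := comp_pt a (ov α ≫ a.act ≫ lift (1 : X ⟶ G) (𝟙 X)) (ov α) (by
      simp only [Category.assoc, lift_snd, Category.comp_id])
    refine Eq.trans h ?_
    simp only [Category.assoc, lift_fst, MonObj.comp_one, one_mul]
    rw [← comp_lift, lift_fst_snd, Category.comp_id]
    rfl
  i_s := by rw [← Over.comp_left, lift_snd]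
  i_t := by
    rw [← Over.comp_left]
    rw [inv_act]
  comp_i {T} α := by
    have h := comp_pt a (ov α) (ov α ≫ lift (fst G X)⁻¹ a.act) (by
      rw [Category.assoc, inv_act])
    refine Eq.trans h ?_
    simp only [Category.assoc, lift_fst, lift_snd, GrpObj.comp_inv, mul_inv_cancel]
    show _ = (ov α ≫ a.act ≫ lift (1 : X ⟶ G) (𝟙 X)).left
    simp only [comp_lift, MonObj.comp_one, Category.comp_id]
  i_comp {T} α := by
    have h := comp_pt a (ov α ≫ lift (fst G X)⁻¹ a.act) (ov α) (by rw [Category.assoc, lift_snd])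
    refine Eq.trans h ?_
    simp only [Category.assoc, lift_fst, GrpObj.comp_inv, inv_mul_cancel]
    show _ = (ov α ≫ snd G X ≫ lift (1 : X ⟶ G) (𝟙 X)).left
    simp only [comp_lift, MonObj.comp_one, Category.comp_id]

theorem mono_j (hfree : ∀ (T : Over S) (g : T ⟶ G) (x : T ⟶ X), lift g x ≫ a.act = x → g = toUnit T ≫ η[G]) :
    Mono (grpd a).j := by
  refine ⟨fun {T} p q h => ?_⟩
  have hs : p ≫ (snd G X).left = q ≫ (snd G X).left := by
    have := congrArg (· ≫ pullback.snd X.hom X.hom) h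
    simpa only [Category.assoc, Grpd.GroupoidScheme.j, pullback.lift_snd] using this
  have ht : p ≫ a.act.left = q ≫ a.act.left := by
    have := congrArg (· ≫ pullback.fst X.hom X.hom) h
    simpa only [Category.assoc, Grpd.GroupoidScheme.j, pullback.lift_fst] using this
  let P : Over.mk (p ≫ (G ⊗ X).hom) ⟶ G ⊗ X := ov p
  let Q : Over.mk (p ≫ (G ⊗ X).hom) ⟶ G ⊗ X := Over.homMk q (by
    show q ≫ (G ⊗ X).hom = p ≫ (G ⊗ X).hom
    rw [← Over.w (snd G X), ← Category.assoc, ← hs, Category.assoc])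
  have e1 : P ≫ snd G X = Q ≫ snd G X := Over.OverMorphism.ext hs
  have e2 : P ≫ a.act = Q ≫ a.act := Over.OverMorphism.ext ht
  have e3 : lift (P ≫ fst G X) (P ≫ snd G X) ≫ a.act = P ≫ a.act := by rw [← comp_lift, lift_fst_snd, Category.comp_id]
  have e4 : lift (Q ≫ fst G X) (P ≫ snd G X) ≫ a.act = Q ≫ a.act := by
    rw [e1, ← comp_lift, lift_fst_snd, Category.comp_id]
  have e5 := hfree _ ((Q ≫ fst G X)⁻¹ * (P ≫ fst G X)) (P ≫ snd G X) (by
    rw [GrpShear.lift_mul_act, e3, e2, ← e4, ← GrpShear.lift_mul_act, inv_mul_cancel, GrpShear.lift_one_act])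
  rw [← Hom.one_def, inv_mul_eq_one] at e5
  exact congrArg Over.Hom.left (CartesianMonoidalCategory.hom_ext P Q e5.symm e1)

/-- Quotient of a free action of a finite locally free group whose orbits lie in affine opens. -/
theorem exists_quotient (hG : Mor2.IsFinLocFree G.hom)
    (hfree : ∀ (T : Over S) (g : T ⟶ G) (x : T ⟶ X), lift g x ≫ a.act = x → g = toUnit T ≫ η[G])
    (hb : ∀ x : X.left, ∃ V : X.left.Opens, IsAffineOpen V ∧
      ∀ r : (G ⊗ X).left, (snd G X).left r = x → a.act.left r ∈ V) :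
    ∃ (M : Over S) (q : X ⟶ M), IsPullback a.act.left (snd G X).left q.left q.left ∧ Surjective q.left ∧
      IsFinite q.left ∧ Flat q.left ∧ LocallyOfFinitePresentation q.left ∧ (IsAffine X.left → IsAffine M.left) := by
  obtain ⟨h1, h2, h3⟩ := hG
  haveI : IsFinite (grpd a).s := MorphismProperty.pullback_snd (P := @IsFinite) _ _ h1
  haveI : Flat (grpd a).s := MorphismProperty.pullback_snd (P := @Flat) _ _ h2
  haveI : LocallyOfFinitePresentation (grpd a).s :=
    MorphismProperty.pullback_snd (P := @LocallyOfFinitePresentation) _ _ h3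
  obtain ⟨Y, p, hp, -, -, -, hmono, haff⟩ := GrpdLib.exists_quotient (grpd a) fun x => by
    obtain ⟨V, hV, hr⟩ := hb x
    refine ⟨V, hV, ?_⟩
    rintro y ⟨r, hr₁, rfl⟩
    exact hr r hr₁
  obtain ⟨hpb, hfin, hflat, hlfp⟩ := hmono (mono_j a hfree)
  obtain ⟨π, hπ, -⟩ := hp.existsUnique_desc (grpd a) X.hom ((Over.w a.act).trans (Over.w (snd G X)).symm)
  exact ⟨Over.mk π, Over.homMk p hπ, hpb, ⟨hp.surj⟩, hfin, hflat, hlfp, haff⟩

end Groth.Agent.ActGrpd
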